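import Cfsg.Agent.H235.ExtRows
import Cfsg.Agent.H671.H5Facts

/-!
# Tools for the sporadic rows of S4910 (helper954)

`CopRow S` : two nonlinear irreducible characters of coprime degrees which extend to `Aut S`, or one of prime power degree
which extends (a copy of `H671.FactRows.CopRow` without its imports).

* `copRow_one` : `|Out S| = 1`, two coprime degrees `≠ 1`;
* `copRow_unique` : `|Out S| ≤ 2`, two coprime degrees `≠ 1`, each the degree of exactly one character;
* `copRow_inv` : the same with invariant characters;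
* `exists_inv_of_odd` : an odd number of characters of degree `d` contains an invariant one, `|Out S| ≤ 2`.
-/

set_option autoImplicit false
set_option linter.unusedSectionVars false

namespace Cfsg.Agent.H954.LD

open Cfsg Cfsg.Agent.H671.H5 Cfsg.Agent.H235.ExtOut Cfsg.Agent.Characters.Core

universe u

/-- The conclusion of `FactCop`. -/
def CopRow (S : Type u) [Group S] : Prop :=
  (∃ α β : Cfsg.IrrCharacter S, Cfsg.charDegree (α : S → ℂ) ≠ 1 ∧ Cfsg.charDegree (β : S → ℂ) ≠ 1 ∧
    Nat.Coprime (Cfsg.charDegree (α : S → ℂ)) (Cfsg.charDegree (β : S → ℂ)) ∧ ExtAut α ∧ ExtAut β) ∨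
  ∃ α : Cfsg.IrrCharacter S, IsPrimePow (Cfsg.charDegree (α : S → ℂ)) ∧ ExtAut α

/-- `θ` is invariant under all automorphisms -/
def Inv {S : Type u} [Group S] (θ : IrrCharacter S) : Prop := ∀ (b : MulAut S) (s : S), (θ : S → ℂ) (b s) = (θ : S → ℂ) s

variable {S : Type u} [Group S] [Finite S]

/-- the twist of a character by an automorphism -/
def tw (b : MulAut S) (χ : IrrCharacter S) : IrrCharacter S :=
  ⟨(χ : S → ℂ) ∘ b.toMonoidHom, isIrr_comp b.toMonoidHom b.surjective χ.2⟩

theorem tw_apply (b : MulAut S) (χ : IrrCharacter S) (s : S) : (tw b χ : S → ℂ) s = (χ : S → ℂ) (b s) := rfl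

theorem charDegree_tw (b : MulAut S) (χ : IrrCharacter S) : charDegree (tw b χ : S → ℂ) = charDegree (χ : S → ℂ) := by
  unfold charDegree
  rw [tw_apply, map_one]

theorem inv_of_unique {χ : IrrCharacter S}
    (h : ∀ ψ : IrrCharacter S, charDegree (ψ : S → ℂ) = charDegree (χ : S → ℂ) → ψ = χ) : Inv χ := by
  intro b s
  have h1 := h (tw b χ) (charDegree_tw b χ)
  rw [← tw_apply, h1]

variable [IsSimpleGroup S]

theorem isCyclic_out (h2 : Nat.card (Out S) ≤ 2) : IsCyclic (Out S) := by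
  have hfin : Finite (MulAut S) := inferInstance
  have hpos : 0 < Nat.card (Out S) := Nat.card_pos
  have h3 : Nat.card (Out S) = 1 ∨ Nat.card (Out S) = 2 := by omega
  rcases h3 with h3 | h3
  · exact @isCyclic_of_subsingleton _ _ (Nat.card_eq_one_iff_unique.1 h3).1
  · exact isCyclic_of_prime_card h3

theorem ext_of_inv (hna : ¬ IsMulCommutative S) (h2 : Nat.card (Out S) ≤ 2) {θ : IrrCharacter S} (h : Inv θ) :
    ExtAut θ := extAut_of_invariant hna (isCyclic_out h2) θ h

theorem inv_of_inner (h1 : Nat.card (Out S) = 1) (θ : IrrCharacter S) : Inv θ := by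
  intro b s
  have h3 : Subsingleton (Out S) := (Nat.card_eq_one_iff_unique.1 h1).1
  have h4 : (QuotientGroup.mk b : Out S) = 1 := Subsingleton.elim _ _
  rw [QuotientGroup.eq_one_iff] at h4
  obtain ⟨g, rfl⟩ := h4
  rw [MulAut.conj_apply]
  exact isIrr_isClassFunction θ.2 s g

theorem copRow_inv (hna : ¬ IsMulCommutative S) (h2 : Nat.card (Out S) ≤ 2) {α β : IrrCharacter S}
    (hα : charDegree (α : S → ℂ) ≠ 1) (hβ : charDegree (β : S → ℂ) ≠ 1)
    (hc : Nat.Coprime (charDegree (α : S → ℂ)) (charDegree (β : S → ℂ))) (hiα : Inv α) (hiβ : Inv β) : CopRow S :=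
  Or.inl ⟨α, β, hα, hβ, hc, ext_of_inv hna h2 hiα, ext_of_inv hna h2 hiβ⟩

/-- **`Out S = 1`** -/
theorem copRow_one (hna : ¬ IsMulCommutative S) (h1 : Nat.card (Out S) = 1) {α β : IrrCharacter S}
    (hα : charDegree (α : S → ℂ) ≠ 1) (hβ : charDegree (β : S → ℂ) ≠ 1)
    (hc : Nat.Coprime (charDegree (α : S → ℂ)) (charDegree (β : S → ℂ))) : CopRow S :=
  copRow_inv hna (by omega) hα hβ hc (inv_of_inner h1 α) (inv_of_inner h1 β)

theorem copRow_one_pp (hna : ¬ IsMulCommutative S) (h1 : Nat.card (Out S) = 1) {α : IrrCharacter S}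
    (hα : IsPrimePow (charDegree (α : S → ℂ))) : CopRow S :=
  Or.inr ⟨α, hα, ext_of_inv hna (by omega) (inv_of_inner h1 α)⟩

/-- **unique degrees** -/
theorem copRow_unique (hna : ¬ IsMulCommutative S) (h2 : Nat.card (Out S) ≤ 2) {α β : IrrCharacter S}
    (hα : charDegree (α : S → ℂ) ≠ 1) (hβ : charDegree (β : S → ℂ) ≠ 1)
    (hc : Nat.Coprime (charDegree (α : S → ℂ)) (charDegree (β : S → ℂ)))
    (huα : ∀ ψ : IrrCharacter S, charDegree (ψ : S → ℂ) = charDegree (α : S → ℂ) → ψ = α)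
    (huβ : ∀ ψ : IrrCharacter S, charDegree (ψ : S → ℂ) = charDegree (β : S → ℂ) → ψ = β) : CopRow S :=
  copRow_inv hna h2 hα hβ hc (inv_of_unique huα) (inv_of_unique huβ)

theorem inv_iff_of_gen (h2 : Nat.card (Out S) ≤ 2) : ∃ b : MulAut S, ∀ θ : IrrCharacter S,
    (tw b (tw b θ) = θ) ∧ (tw b θ = θ → Inv θ) := by
  obtain ⟨g, hg⟩ := (isCyclic_out h2).exists_generator
  obtain ⟨b, rfl⟩ := QuotientGroup.mk'_surjective (Inn S) g
  have hfin : Finite (MulAut S) := inferInstance
  have hpos : 0 < Nat.card (Out S) := Nat.card_pos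
  have hsq : (QuotientGroup.mk' (Inn S) b) ^ 2 = 1 := by
    have h3 : orderOf (QuotientGroup.mk' (Inn S) b) ∣ 2 := by
      have h4 : orderOf (QuotientGroup.mk' (Inn S) b) ∣ Nat.card (Out S) := orderOf_dvd_natCard _
      have h5 : Nat.card (Out S) = 1 ∨ Nat.card (Out S) = 2 := by omega
      rcases h5 with h5 | h5
      · rw [h5] at h4; exact h4.trans (one_dvd 2)
      · rwa [h5] at h4
    exact orderOf_dvd_iff_pow_eq_one.1 h3
  have key : ∀ (θ : IrrCharacter S) (c : MulAut S), QuotientGroup.mk' (Inn S) c = 1 → ∀ s, (θ : S → ℂ) (c s) = (θ : S → ℂ) s := by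
    intro θ c hc s
    obtain ⟨g, rfl⟩ := (QuotientGroup.eq_one_iff _).1 hc
    rw [MulAut.conj_apply]
    exact isIrr_isClassFunction θ.2 s g
  refine ⟨b, fun θ => ⟨?_, fun h c s => ?_⟩⟩
  · apply Subtype.ext
    funext s
    show (θ : S → ℂ) (b (b s)) = (θ : S → ℂ) s
    exact key θ (b ^ 2) (by rw [map_pow]; exact hsq) s
  · have h1 : ∀ s, (θ : S → ℂ) (b s) = (θ : S → ℂ) s := fun s => by rw [← tw_apply, h]
    have h3 : ∀ (n : ℕ) (s : S), (θ : S → ℂ) ((b ^ n) s) = (θ : S → ℂ) s := by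
      intro n
      induction n with
      | zero => intro s; rfl
      | succ n ih =>
        intro s
        rw [pow_succ, MulAut.mul_apply, ih, h1]
    obtain ⟨j, hj⟩ := (mem_powers_iff_mem_zpowers (x := QuotientGroup.mk' (Inn S) b)).2 (hg (QuotientGroup.mk' (Inn S) c))
    have hj' : QuotientGroup.mk' (Inn S) (b ^ j) = QuotientGroup.mk' (Inn S) c := by rw [map_pow]; exact hj
    have h5 : QuotientGroup.mk' (Inn S) (c * (b ^ j)⁻¹) = 1 := by rw [map_mul, map_inv, hj', mul_inv_cancel]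
    have h6 := key θ _ h5 ((b ^ j) s)
    rw [MulAut.mul_apply, MulAut.inv_apply_self] at h6
    rw [h6, h3]

open scoped Classical in
/-- **An odd set of characters closed under automorphisms contains an invariant one.** -/
theorem exists_inv_of_odd (h2 : Nat.card (Out S) ≤ 2) (s : Finset (IrrCharacter S)) (hs : Odd s.card)
    (hcl : ∀ (b : MulAut S), ∀ θ ∈ s, tw b θ ∈ s) : ∃ θ ∈ s, Inv θ := by
  obtain ⟨b, hb⟩ := inv_iff_of_gen h2 (S := S)
  by_contra hno
  push Not at hno
  have h1 : ∑ a ∈ s, (1 : ZMod 2) = 0 := by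
    refine Finset.sum_involution (fun a _ => tw b a) (fun a _ => by decide) (fun a ha _ h => hno a ha ((hb a).2 h))
      (fun a ha => hcl b a ha) (fun a _ => (hb a).1)
  rw [Finset.sum_const, nsmul_eq_mul, mul_one, ZMod.natCast_eq_zero_iff_even] at h1
  exact (Nat.not_even_iff_odd.2 hs) h1

end Cfsg.Agent.H954.LD
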