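import Cfsg.Agent.H954.LD.Final
import Cfsg.Agent.H940.EngData
import Cfsg.Agent.H456.LD.RowM11
import Cfsg.Agent.H396.LD.RowM12
import Cfsg.Agent.H569.LD.RowM22
import Cfsg.Agent.H790.LD.RowM23
import Cfsg.Agent.H587.LD.RowM24
import Cfsg.Agent.H55.LD.RowJ1
import Cfsg.Agent.H610.LD.RowJ2
import Cfsg.Agent.H360.LD.RowJ3
import Cfsg.Agent.H781.LD.RowJ4
import Cfsg.Agent.H896.LD.RowHS
import Cfsg.Agent.H901.LD.RowMcL
import Cfsg.Agent.H358.LD.RowHe
import Cfsg.Agent.H913.LD.RowRu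
import Cfsg.Agent.H212.LD.RowSuz
import Cfsg.Agent.H349.LD.RowON
import Cfsg.Agent.H272.LD.RowCo1
import Cfsg.Agent.H618.LD.RowFi22
import Cfsg.Agent.H456.LD.RowHN
import Cfsg.Agent.H333.LD.RowLy
import Cfsg.Agent.H168.LD.RowTh
import Cfsg.Agent.H451.LD.RowTits
import Cfsg.Agent.H676.LD.RowM
import Cfsg.Agent.H676.LD.RowB

/-!
# S4910: all the rows but `Fi23` and `Fi24'` (helper954)
-/

set_option autoImplicit false

namespace Cfsg.Agent.H954.LD

open Cfsg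

/-- All the rows from those of `Fi23` and `Fi24'`. -/
theorem rows_of (B : Cfsg.Agent.H940.Eng.Base) (h23 : RowOf @Spor.IsoFi23) (h24 : RowOf @Spor.IsoFi24') : Rows where
  m11 := fun _ _ _ _ hna h => H456.LD.row_M11 hna h
  m12 := fun _ _ _ _ hna h => H396.LD.row_M12 hna h
  m22 := fun _ _ _ _ hna h => H569.LD.row_M22 hna h
  m23 := fun _ _ _ _ hna h => H790.LD.row_M23 hna h
  m24 := fun _ _ _ _ hna h => H587.LD.row_M24 hna h
  j1 := fun _ _ _ _ hna h => H55.LD.row_J1 hna h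
  j2 := fun _ _ _ _ hna h => H610.LD.row_J2 hna h
  j3 := fun _ _ _ _ hna h => H360.LD.row_J3 hna h
  j4 := fun _ _ _ _ hna h => H781.LD.row_J4 hna h
  co1 := fun _ _ _ _ hna h => H272.LD.row_Co1 hna h
  co2 := fun _ _ _ _ hna h => H587.LD.row_Co2 hna h
  co3 := fun _ _ _ _ hna h => H587.LD.row_Co3 hna h
  mcl := fun _ _ _ _ hna h => H901.LD.row_McL hna h
  hs := fun _ _ _ _ hna h => H896.LD.row_HS hna h
  suz := fun _ _ _ _ hna h => H212.LD.row_Suz hna h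
  he := fun _ _ _ _ hna h => H358.LD.HeRow.row_He hna h
  ru := fun _ _ _ _ hna h => H913.LD.row_Ru hna h
  on := fun _ _ _ _ hna h => H349.LD.row_ON hna h
  ly := fun _ _ _ _ hna h => H333.LD.row_Ly hna h
  fi22 := fun _ _ _ _ hna h => H618.LD.row_Fi22 hna h
  fi23 := h23
  fi24 := h24
  hn := fun _ _ _ _ hna h => H456.LD.row_HN hna h
  th := fun _ _ _ _ hna h => H168.LD.row_Th hna h
  b := fun _ _ _ _ _ h => H676.LD.row_B h
  m := fun _ _ _ _ _ h => H676.LD.row_M B h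
  tits := fun _ _ _ _ hna h => H451.LD.row_Tits hna h

end Cfsg.Agent.H954.LD
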