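import Cfsg.Agent.H954.LD.Row
import Cfsg.Agent.H954.Cop
import Cfsg.Agent.H671.FactRows

/-!
# S4910 from the rows of the sporadic groups and the Tits group (helper954)
-/

set_option autoImplicit false

namespace Cfsg.Agent.H954.LD

open Cfsg Cfsg.Agent.H671.H5

universe u

/-- The row of the groups satisfying `P`. -/
def RowOf (P : (S : Type) → [Group S] → Prop) : Prop :=
  ∀ (S : Type) [Group S] [Finite S] [IsSimpleGroup S], ¬ IsMulCommutative S → P S → CopRow S

/-- All the rows. -/
structure Rows : Prop where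
  m11 : RowOf @Spor.IsoM11
  m12 : RowOf @Spor.IsoM12
  m22 : RowOf @Spor.IsoM22
  m23 : RowOf @Spor.IsoM23
  m24 : RowOf @Spor.IsoM24
  j1 : RowOf @Spor.IsoJ1
  j2 : RowOf @Spor.IsoJ2
  j3 : RowOf @Spor.IsoJ3
  j4 : RowOf @Spor.IsoJ4
  co1 : RowOf @Spor.IsoCo1
  co2 : RowOf @Spor.IsoCo2
  co3 : RowOf @Spor.IsoCo3
  mcl : RowOf @Spor.IsoMcL
  hs : RowOf @Spor.IsoHS
  suz : RowOf @Spor.IsoSuz
  he : RowOf @Spor.IsoHe
  ru : RowOf @Spor.IsoRu
  on : RowOf @Spor.IsoON
  ly : RowOf @Spor.IsoLy
  fi22 : RowOf @Spor.IsoFi22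
  fi23 : RowOf @Spor.IsoFi23
  fi24 : RowOf @Spor.IsoFi24'
  hn : RowOf @Spor.IsoHN
  th : RowOf @Spor.IsoTh
  b : RowOf @Spor.IsoB
  m : RowOf @Spor.IsoM
  tits : RowOf @Lie.IsoTits

theorem factCop (hK : Cfsg.Agent.H671.FactRows.KnownAll.{0}) (R : Rows) : FactCop.{0} := by
  refine Cfsg.Agent.H671.FactRows.factCop_of_rows hK fun S _ _ _ hna h => ?_
  have key : CopRow S := by
    rcases h with h | h
    · exact R.tits S hna h
    · rcases h with h | h | h | h | h | h | h | h | h | h | h | h | h | h | h | h | h | h | h | h | h | h | h | h | h | h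
      · exact R.m11 S hna h
      · exact R.m12 S hna h
      · exact R.m22 S hna h
      · exact R.m23 S hna h
      · exact R.m24 S hna h
      · exact R.j1 S hna h
      · exact R.j2 S hna h
      · exact R.j3 S hna h
      · exact R.j4 S hna h
      · exact R.co1 S hna h
      · exact R.co2 S hna h
      · exact R.co3 S hna h
      · exact R.mcl S hna h
      · exact R.hs S hna h
      · exact R.suz S hna h
      · exact R.he S hna h
      · exact R.ru S hna h
      · exact R.on S hna h
      · exact R.ly S hna h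
      · exact R.fi22 S hna h
      · exact R.fi23 S hna h
      · exact R.fi24 S hna h
      · exact R.hn S hna h
      · exact R.th S hna h
      · exact R.b S hna h
      · exact R.m S hna h
  exact key

theorem main (hK : Cfsg.Agent.H671.FactRows.KnownAll.{0}) (R : Rows) {G : Type*} [Group G] [Finite G]
    (hG : ¬ Group.IsSolvable G) :
    ∃ χ ψ : IrrCharacter G, charDegree (χ : G → ℂ) ≠ 1 ∧ charDegree (ψ : G → ℂ) ≠ 1 ∧
      Nat.Coprime (charDegree (χ : G → ℂ)) (charDegree (ψ : G → ℂ)) :=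
  Cfsg.Agent.H954.Cop.main (factCop hK R) hG

end Cfsg.Agent.H954.LD
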