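import Cfsg.Agent.H531.MB.SieveB
import Cfsg.Agent.H792.DS.Tools
import Cfsg.Agent.H686.CharKit

/-!
# S4910: the block of a character of the Baby Monster, abstractly (helper954)

* `Vals13` : the values of the irreducible characters at an element `x` of order 13 and at `x z`;
* `exists_coprime` : if `ω_χ(x) ∉ M` for some `χ`, there is a nonlinear character of degree prime to `4371`.
-/

set_option autoImplicit false
set_option maxRecDepth 100000

open Cfsg Subgroup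

namespace Cfsg.Agent.H954.LD

open Cfsg.Agent.Blocks.Local Cfsg.Agent.Blocks.Basic Cfsg.Agent.H531.MB

universe u

/-- the values at an element `x` of order 13 and at `x z`, `z` a double transposition of `C(x) = ⟨x⟩ × S₄` -/
def Vals13 (L : Type u) [Group L] (x : L) : Prop :=
  ∃ z : L, orderOf z = 2 ∧ Commute x z ∧ ∀ χ : IrrCharacter L, (χ : L → ℂ) x = 0 ∨
    ∃ ε : ℤ, (ε = 1 ∨ ε = -1) ∧
      (((χ : L → ℂ) x = ε ∧ (χ : L → ℂ) (x * z) = ε) ∨
        ((χ : L → ℂ) x = (2 * ε : ℤ) ∧ (χ : L → ℂ) (x * z) = (2 * ε : ℤ)) ∨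
          ((χ : L → ℂ) x = (3 * ε : ℤ) ∧ (χ : L → ℂ) (x * z) = (-ε : ℤ)))

theorem exists_coprime {G : Type u} [Group G] [Finite G] [IsSimpleGroup G] (hG : ¬ IsMulCommutative G)
    (hN : Nat.card G = nB) (C : CentB G) {x : G} (hx : orderOf x = 13)
    (h312 : Nat.card (centralizer ({x} : Set G)) = 312) (hV : Vals13 G x) {M : Ideal AlgInt} (hM : IsPModular 2 M)
    (h0 : ∃ χ : IrrCharacter G, ¬ MemLocalIdeal M (centralChar (χ : G → ℂ) x)) :
    ∃ χ : IrrCharacter G, Nat.Coprime (charDegree (χ : G → ℂ)) 4371 ∧ charDegree (χ : G → ℂ) ≠ 1 := by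
  classical
  have hMp := isPrime_of_isPModular hM
  have : Finite (IrrCharacter G) := Characters.Core.finite_irr
  have := Fintype.ofFinite (IrrCharacter G)
  obtain ⟨z, hz, hxz, hval⟩ := hV
  obtain ⟨χ₀, hχ₀⟩ := h0
  have hidx : ((centralizer ({x} : Set G)).index).factorization 2 = 38 := by
    have h1 := (centralizer ({x} : Set G)).card_mul_index
    rw [h312, hN] at h1
    have h2 : (centralizer ({x} : Set G)).index = 2 ^ 38 * 48445535182047609375 := by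
      unfold nB at h1
      omega
    rw [h2, Nat.factorization_mul (by norm_num) (by norm_num), Nat.Prime.factorization_pow Nat.prime_two,
      Finsupp.add_apply, Finsupp.single_eq_same,
      Nat.factorization_eq_zero_of_not_dvd (by norm_num : ¬ 2 ∣ 48445535182047609375)]
  have hvw : ∀ χ : IrrCharacter G, ∃ v w : ℤ, (χ : G → ℂ) x = v ∧ (v ≠ 0 → (χ : G → ℂ) (x * z) = w ∧
      ∃ ε : ℤ, (ε = 1 ∨ ε = -1) ∧ ((v = ε ∧ w = ε) ∨ (v = 2 * ε ∧ w = 2 * ε) ∨ (v = 3 * ε ∧ w = -ε))) := by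
    intro χ
    rcases hval χ with h | ⟨ε, hε, h | h | h⟩
    · exact ⟨0, 0, by rw [h, Int.cast_zero], fun h1 => absurd rfl h1⟩
    · exact ⟨ε, ε, h.1, fun _ => ⟨h.2, ε, hε, Or.inl ⟨rfl, rfl⟩⟩⟩
    · exact ⟨2 * ε, 2 * ε, h.1, fun _ => ⟨h.2, ε, hε, Or.inr (Or.inl ⟨rfl, rfl⟩)⟩⟩
    · exact ⟨3 * ε, -ε, h.1, fun _ => ⟨h.2, ε, hε, Or.inr (Or.inr ⟨rfl, rfl⟩)⟩⟩
  choose v w hv hw using hvw
  set b : Finset (IrrCharacter G) := (Set.toFinite (blockOf M (χ₀ : G → ℂ))).toFinset with hb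
  have hbm : ∀ ψ, ψ ∈ b ↔ ψ ∈ blockOf M (χ₀ : G → ℂ) := fun ψ => by rw [hb, Set.Finite.mem_toFinset]
  have hfac : ∀ ψ ∈ b, v ψ ≠ 0 ∧ (charDegree (ψ : G → ℂ)).factorization 2 = 38 + (v ψ).natAbs.factorization 2 := by
    intro ψ hψ
    have h1 := H792.DS.factorization_eq_of_mem hM hχ₀ ((hbm ψ).1 hψ) (hv ψ)
    rw [hidx] at h1
    exact h1
  have hdvd : ∀ ψ : IrrCharacter G, ∀ n : ℕ, 2 ^ n ∣ charDegree (ψ : G → ℂ) ↔
      n ≤ (charDegree (ψ : G → ℂ)).factorization 2 := fun ψ n =>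
    Nat.prime_two.pow_dvd_iff_le_factorization (charDegree_pos ψ.2).ne'
  have hodd : ∀ n : ℕ, (n = 1 ∨ n = 3) → n.factorization 2 = 0 := by
    rintro n (rfl | rfl)
    · simp
    · exact Nat.factorization_eq_zero_of_not_dvd (by norm_num)
  have h38 : ∀ ψ ∈ b, 2 ^ 38 ∣ charDegree (ψ : G → ℂ) := by
    intro ψ hψ
    rw [hdvd, (hfac ψ hψ).2]
    omega
  have hVal : ∀ ψ ∈ b, Val (v ψ) (w ψ) (charDegree (ψ : G → ℂ)) := by
    intro ψ hψ
    obtain ⟨h1, h2⟩ := hfac ψ hψ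
    obtain ⟨-, ε, hε, h3⟩ := hw ψ h1
    refine ⟨ε, hε, ?_⟩
    rw [hdvd, hdvd, h2]
    rcases h3 with h3 | h3 | h3
    · left
      refine ⟨h3.1, h3.2, ?_⟩
      rw [hodd _ (Or.inl (by rw [h3.1]; rcases hε with rfl | rfl <;> rfl))]
      omega
    · right; left
      refine ⟨h3.1, h3.2, ?_⟩
      have h4 : (v ψ).natAbs = 2 := by rw [h3.1]; rcases hε with rfl | rfl <;> rfl
      rw [h4, Nat.Prime.factorization_self Nat.prime_two]
      omega
    · right; right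
      refine ⟨h3.1, h3.2, ?_⟩
      rw [hodd _ (Or.inr (by rw [h3.1]; rcases hε with rfl | rfl <;> rfl))]
      omega
  have hsq : ∑ ψ ∈ b, v ψ * v ψ ≤ 312 := by
    have h1 := H686.CharKit.sum_normSq x
    rw [h312] at h1
    have h2 : ∑ ψ : IrrCharacter G, v ψ * v ψ = 312 := by
      have h3 : ((∑ ψ : IrrCharacter G, v ψ * v ψ : ℤ) : ℝ) = 312 := by
        rw [← (by exact_mod_cast h1 : ∑ χ : IrrCharacter G, Complex.normSq ((χ : G → ℂ) x) = (312 : ℝ)), Int.cast_sum]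
        refine Finset.sum_congr rfl fun ψ _ => ?_
        rw [hv ψ, Complex.normSq_intCast]
        push_cast
        ring
      exact_mod_cast h3
    rw [← h2]
    exact Finset.sum_le_sum_of_subset_of_nonneg (Finset.subset_univ b) fun ψ _ _ => mul_self_nonneg _
  have hsum : ∑ ψ ∈ b, (charDegree (ψ : G → ℂ) : ℤ) * w ψ = 0 := by
    have hxz2 : 2 ∣ orderOf (x * z) := by
      have h1 : orderOf (x * z) = 13 * 2 := by
        rw [hxz.orderOf_mul_eq_mul_orderOf_of_coprime (by rw [hx, hz]; norm_num), hx, hz]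
      rw [h1]
      norm_num
    have horth := Cfsg.Agent.Blocks.Orthogonality.weak_block_orthogonality hM (blockOf M (χ₀ : G → ℂ))
      (Cfsg.Agent.Blocks.Osima.memLocalRing_blockCoeff hM (isPBlock_blockOf χ₀)) (x := (1 : G)) (y := x * z)
      (by rw [orderOf_one]; norm_num) hxz2
    rw [finsum_mem_eq_finite_toFinset_sum _ (Set.toFinite _), ← hb] at horth
    have h1 : ((∑ ψ ∈ b, (charDegree (ψ : G → ℂ) : ℤ) * w ψ : ℤ) : ℂ) = 0 := by
      rw [← horth, Int.cast_sum]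
      refine Finset.sum_congr rfl fun ψ hψ => ?_
      rw [irr_one_eq_charDegree ψ.2, (hw ψ (hfac ψ hψ).1).1, Int.cast_mul, Int.cast_natCast, ← Complex.ofReal_intCast,
        Complex.conj_ofReal]
    exact_mod_cast h1
  obtain ⟨ψ, hψ, h⟩ := H531.MB.exists_coprime hG hN C hx b ⟨χ₀, (hbm _).2 (mem_blockOf_self χ₀)⟩ v w h38
    (fun ψ _ => hv ψ) hVal hsq hsum
  refine ⟨ψ, h, fun h1 => ?_⟩
  have h2 := h38 ψ hψ
  rw [h1] at h2
  norm_num at h2

end Cfsg.Agent.H954.LD
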